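import Mathlib

set_option linter.unusedSectionVars false
set_option linter.unusedVariables false
set_option linter.unusedSimpArgs false
set_option autoImplicit false
set_option linter.style.haveILetI false
set_option maxHeartbeats 400000

/-!
# Tensoring a jointly injective family with a module approximated by projective retracts
-/

namespace Groth.Agent.Lib.Helper6.PerfInj

open scoped TensorProduct

variable {R : Type*} [CommRing R] {N : Type*} [AddCommGroup N] [Module R N]
  {I : Type*} {T : I → Type*} [∀ i, AddCommGroup (T i)] [∀ i, Module R (T i)]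

theorem finsuppScalarLeft_lTensor (J : Type*) [DecidableEq J] {T' : Type*} [AddCommGroup T']
    [Module R T'] (g : N →ₗ[R] T') (z : (J →₀ R) ⊗[R] N) (j : J) :
    (TensorProduct.finsuppScalarLeft R T' J (LinearMap.lTensor (J →₀ R) g z)) j
      = g ((TensorProduct.finsuppScalarLeft R N J z) j) := by
  induction z using TensorProduct.induction_on with
  | zero => simp
  | tmul f y =>
    rw [LinearMap.lTensor_tmul, TensorProduct.finsuppScalarLeft_apply_tmul_apply,
      TensorProduct.finsuppScalarLeft_apply_tmul_apply, map_smul]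
  | add z w hz hw =>
    rw [map_add, map_add, map_add, Finsupp.add_apply, Finsupp.add_apply, hz, hw, map_add]

/-- free case -/
theorem eq_zero_of_lTensor_finsupp (J : Type*) (g : ∀ i, N →ₗ[R] T i)
    (hg : ∀ y : N, (∀ i, g i y = 0) → y = 0) (z : (J →₀ R) ⊗[R] N)
    (hz : ∀ i, LinearMap.lTensor (J →₀ R) (g i) z = 0) : z = 0 := by
  classical
  apply (TensorProduct.finsuppScalarLeft R N J).injective
  rw [map_zero]
  ext j
  apply hg
  intro i
  rw [← finsuppScalarLeft_lTensor, hz i, map_zero]
  rfl

/-- projective case -/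
theorem eq_zero_of_lTensor_projective (Q : Type*) [AddCommGroup Q] [Module R Q]
    [Module.Projective R Q] (g : ∀ i, N →ₗ[R] T i)
    (hg : ∀ y : N, (∀ i, g i y = 0) → y = 0) (z : Q ⊗[R] N)
    (hz : ∀ i, LinearMap.lTensor Q (g i) z = 0) : z = 0 := by
  obtain ⟨s, hs⟩ := Module.projective_def'.1 (inferInstance : Module.Projective R Q)
  have h1 : LinearMap.rTensor N s z = 0 := by
    apply eq_zero_of_lTensor_finsupp Q g hg
    intro i
    have : LinearMap.lTensor (Q →₀ R) (g i) (LinearMap.rTensor N s z)
        = LinearMap.rTensor (T i) s (LinearMap.lTensor Q (g i) z) := by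
      rw [← LinearMap.comp_apply, ← LinearMap.comp_apply, LinearMap.lTensor_comp_rTensor,
        LinearMap.rTensor_comp_lTensor]
    rw [this, hz i, map_zero]
  have h2 : z = LinearMap.rTensor N (Finsupp.linearCombination R id) (LinearMap.rTensor N s z) := by
    rw [← LinearMap.comp_apply, ← LinearMap.rTensor_comp, hs, LinearMap.rTensor_id,
      LinearMap.id_apply]
  rw [h2, h1, map_zero]

/-- approximation by projective retracts -/
theorem pi_lTensor_injective_of_approx {R' : Type*} [AddCommGroup R'] [Module R R']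
    (P : ℕ → Type*) [∀ n, AddCommGroup (P n)] [∀ n, Module R (P n)]
    [∀ n, Module.Projective R (P n)]
    (ι : ∀ n, P n →ₗ[R] R') (ρ : ∀ n, R' →ₗ[R] P n) (hρ : ∀ n x, ρ n (ι n x) = x)
    (hex : ∀ z : R' ⊗[R] N, ∃ (n : ℕ) (zn : P n ⊗[R] N), LinearMap.rTensor N (ι n) zn = z)
    (g : ∀ i, N →ₗ[R] T i) (hg : ∀ y : N, (∀ i, g i y = 0) → y = 0) :
    Function.Injective (LinearMap.pi fun i => LinearMap.lTensor R' (g i) :
      R' ⊗[R] N →ₗ[R] (∀ i, R' ⊗[R] T i)) := by
  rw [injective_iff_map_eq_zero]
  intro z hz
  have hz' : ∀ i, LinearMap.lTensor R' (g i) z = 0 := fun i => congrFun hz i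
  obtain ⟨n, zn, rfl⟩ := hex z
  have h1 : zn = 0 := by
    apply eq_zero_of_lTensor_projective (P n) g hg
    intro i
    have h2 : LinearMap.rTensor (T i) (ι n) (LinearMap.lTensor (P n) (g i) zn) = 0 := by
      rw [← hz' i, ← LinearMap.comp_apply, ← LinearMap.comp_apply, LinearMap.lTensor_comp_rTensor,
        LinearMap.rTensor_comp_lTensor]
    have h3 := congrArg (LinearMap.rTensor (T i) (ρ n)) h2
    rw [← LinearMap.comp_apply, ← LinearMap.rTensor_comp, map_zero] at h3
    have h4 : (ρ n).comp (ι n) = LinearMap.id := LinearMap.ext (hρ n)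
    rw [h4, LinearMap.rTensor_id, LinearMap.id_apply] at h3
    exact h3
  rw [h1, map_zero]

end Groth.Agent.Lib.Helper6.PerfInj
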