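import Groth.Prelude.Def_FrobAlg
import Mathlib

set_option linter.unusedSectionVars false
set_option linter.unusedVariables false
set_option linter.unusedSimpArgs false
set_option autoImplicit false
set_option linter.style.haveILetI false
set_option maxHeartbeats 400000

/-!
# Frobenius splittings and the perfection as a union of projective retracts
-/

namespace Groth.Agent.Lib.Helper6.PerfInj

open scoped TensorProduct

universe u

variable (p : ℕ) [Fact p.Prime] (R : Type u) [CommRing R] [CharP R p]

/-- A Frobenius splitting: an additive map `l` with `l (r^p x) = r l x`, `l 1 = 1`. -/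
structure FrobSplit where
  l : R →+ R
  l_mul : ∀ r x : R, l (r ^ p * x) = r * l x
  l_one : l 1 = 1

theorem twist_smul_def (r : R) (x : FrobAlg.Twist p R) :
    r • x = FrobAlg.toTwist p R (r ^ p) * x := by
  rw [Algebra.smul_def, FrobAlg.algebraMap_twist]

theorem exists_frobSplit [Module.Projective R (FrobAlg.Twist p R)] :
    Nonempty (FrobSplit p R) := by
  classical
  obtain ⟨s, hs⟩ := Module.projective_def'.1
    (inferInstance : Module.Projective R (FrobAlg.Twist p R))
  set f : FrobAlg.Twist p R →₀ R := s 1 with hf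
  have h1 : Finsupp.linearCombination R id f = (1 : FrobAlg.Twist p R) := by
    have := LinearMap.congr_fun hs (1 : FrobAlg.Twist p R)
    simpa using this
  have hp : 0 < p := (Fact.out : p.Prime).pos
  let u : FrobAlg.Twist p R ≃+* R := (FrobAlg.toTwist p R).symm
  have hmem : (1 : R) ∈ Ideal.span (Set.range (f : FrobAlg.Twist p R → R)) := by
    have h2 : ∀ j : FrobAlg.Twist p R, u (f j • j)
        ∈ Ideal.span (Set.range (f : FrobAlg.Twist p R → R)) := by
      intro j
      have : u (f j • j) = (f j) * ((f j) ^ (p - 1) * u j) := by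
        rw [twist_smul_def, map_mul]
        show (f j) ^ p * u j = _
        rw [← mul_assoc, ← pow_succ', Nat.sub_add_cancel hp]
      rw [this]
      exact Ideal.mul_mem_right _ _ (Ideal.subset_span ⟨j, rfl⟩)
    have h3 : u (Finsupp.linearCombination R id f)
        ∈ Ideal.span (Set.range (f : FrobAlg.Twist p R → R)) := by
      rw [Finsupp.linearCombination_apply, Finsupp.sum, map_sum]
      exact Ideal.sum_mem _ (fun j _ => h2 j)
    rw [h1, map_one] at h3
    exact h3
  obtain ⟨a, ha⟩ := Finsupp.mem_ideal_span_range_iff_exists_finsupp.1 hmem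
  -- the functional
  let ψ : (FrobAlg.Twist p R →₀ R) →ₗ[R] R :=
    ∑ i ∈ a.support, a i • Finsupp.lapply (R := R) (M := R) i
  let lam : FrobAlg.Twist p R →ₗ[R] R := ψ.comp s
  have hlam1 : lam 1 = 1 := by
    show ψ (s 1) = 1
    rw [← hf, ← ha]
    simp only [ψ, LinearMap.sum_apply, LinearMap.smul_apply, Finsupp.lapply_apply, smul_eq_mul,
      Finsupp.sum]
  refine ⟨⟨lam.toAddMonoidHom.comp (FrobAlg.toTwist p R).toAddMonoidHom, ?_, ?_⟩⟩
  · intro r x
    show lam (FrobAlg.toTwist p R (r ^ p * x)) = r * lam (FrobAlg.toTwist p R x)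
    rw [map_mul, ← twist_smul_def, map_smul, smul_eq_mul]
  · show lam (FrobAlg.toTwist p R 1) = 1
    rw [map_one, hlam1]

end Groth.Agent.Lib.Helper6.PerfInj
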