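import Groth.Agent.Lib.Helper6.PerfInj.Frob

set_option linter.unusedSectionVars false
set_option linter.unusedVariables false
set_option linter.unusedSimpArgs false
set_option autoImplicit false
set_option linter.style.haveILetI false
set_option maxHeartbeats 400000

/-!
# The Frobenius levels `R_n` of a ring of characteristic `p`
-/

namespace Groth.Agent.Lib.Helper6.PerfInj

open scoped TensorProduct

universe u

set_option linter.unusedVariables false in
/-- `R` with the `R`-module structure through the `n`-th iterate of Frobenius. -/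
@[nolint unusedArguments]
def Rn (p : ℕ) (R : Type u) (n : ℕ) : Type u := R

variable (p : ℕ) [Fact p.Prime] (R : Type u) [CommRing R] [CharP R p]

instance (n : ℕ) : AddCommGroup (Rn p R n) := inferInstanceAs (AddCommGroup R)

/-- identity `R ≃+ R_n` -/
def Rn.equiv (n : ℕ) : R ≃+ Rn p R n := AddEquiv.refl R

instance (n : ℕ) : Module R (Rn p R n) :=
  (Module.compHom R (iterateFrobenius R p n) : Module R R)

theorem Rn.smul_def (n : ℕ) (r : R) (x : Rn p R n) :
    r • x = Rn.equiv p R n (r ^ (p ^ n) * (Rn.equiv p R n).symm x) := by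
  show (iterateFrobenius R p n r) * _ = _
  rw [iterateFrobenius_def]
  rfl

theorem Rn.smul_equiv (n : ℕ) (r : R) (x : R) :
    r • Rn.equiv p R n x = Rn.equiv p R n (r ^ (p ^ n) * x) := by
  rw [Rn.smul_def, AddEquiv.symm_apply_apply]

/-- `R_0 = R` -/
def Rn.e0 : R ≃ₗ[R] Rn p R 0 where
  toFun := Rn.equiv p R 0
  invFun := (Rn.equiv p R 0).symm
  left_inv := (Rn.equiv p R 0).left_inv
  right_inv := (Rn.equiv p R 0).right_inv
  map_add' := map_add _
  map_smul' r x := by
    rw [RingHom.id_apply, Rn.smul_equiv, pow_zero, pow_one, smul_eq_mul]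

/-- the cast `R_{n+1} ≃+ R_n` (identity on underlying sets) -/
def Rn.down (n : ℕ) : Rn p R (n + 1) ≃+ Rn p R n :=
  (Rn.equiv p R (n + 1)).symm.trans (Rn.equiv p R n)

theorem Rn.down_smul (n : ℕ) (r : R) (x : Rn p R (n + 1)) :
    Rn.down p R n (r • x) = (r ^ p) • Rn.down p R n x := by
  rw [Rn.smul_def, Rn.smul_def]
  show Rn.equiv p R n (r ^ p ^ (n + 1) * _) = Rn.equiv p R n ((r ^ p) ^ p ^ n * _)
  rw [← pow_mul, ← pow_succ']
  rfl

/-- the linear maps `c ↦ c^{p^n} j` from the Frobenius twist to `R_{n+1}` -/
def Rn.phi (n : ℕ) (j : Rn p R n) : FrobAlg.Twist p R →ₗ[R] Rn p R (n + 1) where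
  toFun c := Rn.equiv p R (n + 1)
    (((FrobAlg.toTwist p R).symm c) ^ (p ^ n) * (Rn.equiv p R n).symm j)
  map_add' c c' := by
    rw [map_add, add_pow_char_pow, add_mul, map_add]
  map_smul' r c := by
    have hu : (FrobAlg.toTwist p R).symm (r • c) = r ^ p * (FrobAlg.toTwist p R).symm c := by
      rw [twist_smul_def, map_mul, RingEquiv.symm_apply_apply]
    rw [RingHom.id_apply, hu, Rn.smul_equiv, mul_pow, ← pow_mul, ← pow_succ', mul_assoc]

theorem Rn_projective [Module.Projective R (FrobAlg.Twist p R)] :
    ∀ n, Module.Projective R (Rn p R n)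
  | 0 => Module.Projective.of_equiv (Rn.e0 p R)
  | n + 1 => by
    haveI := Rn_projective n
    obtain ⟨s, hs⟩ := Module.projective_def'.1 (inferInstance : Module.Projective R (Rn p R n))
    let i : Rn p R (n + 1) →ₗ[R] (Rn p R n →₀ FrobAlg.Twist p R) :=
      { toFun := fun x => Finsupp.mapRange (FrobAlg.toTwist p R) (map_zero _)
          (s (Rn.down p R n x))
        map_add' := fun x y => by
          rw [map_add, map_add]
          exact Finsupp.mapRange_add (map_add _) _ _
        map_smul' := fun r x => by
          rw [RingHom.id_apply, Rn.down_smul, map_smul]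
          ext j
          rw [Finsupp.mapRange_apply, Finsupp.smul_apply, Finsupp.smul_apply,
            Finsupp.mapRange_apply, twist_smul_def, smul_eq_mul, map_mul] }
    let π : (Rn p R n →₀ FrobAlg.Twist p R) →ₗ[R] Rn p R (n + 1) :=
      Finsupp.lsum ℕ (fun j => Rn.phi p R n j)
    have h : ∀ x, π (i x) = x := by
      intro x
      show (Finsupp.lsum ℕ (fun j => Rn.phi p R n j))
        (Finsupp.mapRange (FrobAlg.toTwist p R) (map_zero _) (s (Rn.down p R n x))) = x
      rw [Finsupp.lsum_apply, Finsupp.sum_mapRange_index (fun j => map_zero _)]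
      have h1 := LinearMap.congr_fun hs (Rn.down p R n x)
      rw [LinearMap.comp_apply, LinearMap.id_apply, Finsupp.linearCombination_apply] at h1
      apply (Rn.down p R n).injective
      rw [Finsupp.sum, map_sum]
      refine Eq.trans (Finset.sum_congr rfl fun j _ => ?_) h1
      show _ = (s ((Rn.down p R n) x)) j • j
      rw [Rn.smul_def]
      rfl
    classical
    haveI : Module.Projective R (Rn p R n →₀ FrobAlg.Twist p R) :=
      Module.Projective.of_equiv (finsuppLequivDFinsupp R).symm
    exact Module.Projective.of_split i π (LinearMap.ext h)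

end Groth.Agent.Lib.Helper6.PerfInj
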