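import Groth.Agent.Lib.Helper6.PerfInj.Perf
import Groth.Prelude.Def_W4c1imperftorsorsPerf

set_option linter.unusedSectionVars false
set_option linter.unusedVariables false
set_option linter.unusedSimpArgs false
set_option autoImplicit false
set_option linter.style.haveILetI false
set_option maxHeartbeats 400000

/-!
# Base change of the preperfection to the perfection of the base is injective
-/

namespace Groth.Agent.Lib.Helper6.PerfInj

open scoped TensorProduct

universe u

variable (p : ℕ) [Fact p.Prime] (R : Type u) [CommRing R] [CharP R p]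

attribute [local instance] perfAlg

variable (N : Type*) [AddCommGroup N] [Module R N]

theorem rTensor_iota_trans (n : ℕ) (zn : Rn p R n ⊗[R] N) :
    LinearMap.rTensor N (iota p R (n + 1)) (LinearMap.rTensor N (trans p R n) zn)
      = LinearMap.rTensor N (iota p R n) zn := by
  rw [← LinearMap.comp_apply, ← LinearMap.rTensor_comp]
  have : (iota p R (n + 1)).comp (trans p R n) = iota p R n := LinearMap.ext (iota_trans p R n)
  rw [this]

theorem exists_up (n m : ℕ) (h : n ≤ m) (zn : Rn p R n ⊗[R] N) :
    ∃ zm : Rn p R m ⊗[R] N,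
      LinearMap.rTensor N (iota p R m) zm = LinearMap.rTensor N (iota p R n) zn := by
  induction m, h using Nat.le_induction with
  | base => exact ⟨zn, rfl⟩
  | succ m _ ih =>
    obtain ⟨zm, hzm⟩ := ih
    exact ⟨LinearMap.rTensor N (trans p R m) zm, by rw [rTensor_iota_trans, hzm]⟩

theorem exists_level (z : PerfectClosure R p ⊗[R] N) :
    ∃ (n : ℕ) (zn : Rn p R n ⊗[R] N), LinearMap.rTensor N (iota p R n) zn = z := by
  induction z using TensorProduct.induction_on with
  | zero => exact ⟨0, 0, map_zero _⟩
  | tmul r' y =>
    induction r' using PerfectClosure.induction_on with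
    | h q =>
    obtain ⟨n, x⟩ := q
    refine ⟨n, (Rn.equiv p R n x) ⊗ₜ[R] y, ?_⟩
    rw [LinearMap.rTensor_tmul, iota_apply, AddEquiv.symm_apply_apply]
  | add z w hz hw =>
    obtain ⟨m, a, rfl⟩ := hz
    obtain ⟨n, b, rfl⟩ := hw
    obtain ⟨a', ha'⟩ := exists_up p R N m (max m n) (le_max_left _ _) a
    obtain ⟨b', hb'⟩ := exists_up p R N n (max m n) (le_max_right _ _) b
    exact ⟨max m n, a' + b', by rw [map_add, ha', hb']⟩

theorem main (A : Type u) [CommRing A] [Algebra R A] [CharP A p]
    [Module.Projective R (FrobAlg.Twist p R)] :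
    Function.Injective
      (LinearMap.pi fun i : ℕ =>
        LinearMap.lTensor (PerfectClosure R p)
          (((Pi.evalAlgHom R (fun k => W4c1imperftorsors.Twist p R A k) i).comp
            (W4c1imperftorsors.prePerf p R A).val).toLinearMap) :
        PerfectClosure R p ⊗[R] ↥(W4c1imperftorsors.prePerf p R A) →ₗ[R]
          (Π i : ℕ, PerfectClosure R p ⊗[R] W4c1imperftorsors.Twist p R A i)) := by
  obtain ⟨L⟩ := exists_frobSplit p R
  haveI := Rn_projective p R
  refine pi_lTensor_injective_of_approx (P := Rn p R) (iota p R) (L.rho) (L.rho_iota)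
    (exists_level p R _) _ ?_
  intro y hy
  apply Subtype.ext
  funext i
  exact hy i

end Groth.Agent.Lib.Helper6.PerfInj
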