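import Groth.Agent.Lib.Helper6.PerfInj.Levels
import Groth.Agent.Lib.Helper6.PerfInj.Abstract

set_option linter.unusedSectionVars false
set_option linter.unusedVariables false
set_option linter.unusedSimpArgs false
set_option autoImplicit false
set_option linter.style.haveILetI false
set_option maxHeartbeats 400000

/-!
# The perfect closure as a union of the Frobenius levels, with retractions
-/

namespace Groth.Agent.Lib.Helper6.PerfInj

open scoped TensorProduct

universe u

variable (p : ℕ) [Fact p.Prime] (R : Type u) [CommRing R] [CharP R p]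

/-- The algebra structure `R → PerfectClosure R p`. -/
@[reducible] noncomputable def perfAlg : Algebra R (PerfectClosure R p) :=
  (PerfectClosure.of R p).toAlgebra

attribute [local instance] perfAlg

theorem perf_smul_mk (r : R) (n : ℕ) (x : R) :
    r • PerfectClosure.mk R p (n, x) = PerfectClosure.mk R p (n, r ^ (p ^ n) * x) := by
  rw [Algebra.smul_def]
  show PerfectClosure.of R p r * _ = _
  rw [PerfectClosure.of_apply, PerfectClosure.mk_mul_mk]
  simp only [zero_add, Function.iterate_zero, id_eq, iterate_frobenius, pow_zero, pow_one]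

theorem mk_add_same (n : ℕ) (x y : R) :
    PerfectClosure.mk R p (n, x) + PerfectClosure.mk R p (n, y)
      = PerfectClosure.mk R p (n, x + y) := by
  rw [PerfectClosure.mk_add_mk]
  show PerfectClosure.mk R p (n + n, (frobenius R p)^[n] x + (frobenius R p)^[n] y) = _
  rw [← iterate_map_add]
  exact (PerfectClosure.R.sound R p n n (x + y) _ rfl).symm

/-- `ι_n : R_n → R'`. -/
noncomputable def iota (n : ℕ) : Rn p R n →ₗ[R] PerfectClosure R p where
  toFun x := PerfectClosure.mk R p (n, (Rn.equiv p R n).symm x)
  map_add' x y := by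
    rw [map_add, mk_add_same]
  map_smul' r x := by
    rw [RingHom.id_apply, perf_smul_mk, Rn.smul_def, AddEquiv.symm_apply_apply]

theorem iota_apply (n : ℕ) (x : Rn p R n) :
    iota p R n x = PerfectClosure.mk R p (n, (Rn.equiv p R n).symm x) := rfl

/-- the transition `R_n → R_{n+1}`, `x ↦ x^p`. -/
def trans (n : ℕ) : Rn p R n →ₗ[R] Rn p R (n + 1) where
  toFun x := Rn.equiv p R (n + 1) (((Rn.equiv p R n).symm x) ^ p)
  map_add' x y := by
    rw [map_add, add_pow_char, map_add]
  map_smul' r x := by
    rw [RingHom.id_apply, Rn.smul_def, AddEquiv.symm_apply_apply, Rn.smul_equiv, mul_pow,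
      ← pow_mul, ← pow_succ]

theorem iota_trans (n : ℕ) (x : Rn p R n) : iota p R (n + 1) (trans p R n x) = iota p R n x := by
  rw [iota_apply, iota_apply]
  show PerfectClosure.mk R p (n + 1, ((Rn.equiv p R n).symm x) ^ p) = _
  rw [PerfectClosure.mk_succ_pow]

variable {p R}
variable (L : FrobSplit p R)

theorem FrobSplit.l_pow (x : R) : L.l (x ^ p) = x := by
  have := L.l_mul x 1
  rwa [mul_one, L.l_one, mul_one] at this

theorem FrobSplit.iterate_add (k : ℕ) (a b : R) : (L.l)^[k] (a + b) = (L.l)^[k] a + (L.l)^[k] b :=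
  iterate_map_add L.l k a b

theorem FrobSplit.iterate_frob (k : ℕ) (x : R) : (L.l)^[k] ((frobenius R p)^[k] x) = x := by
  induction k generalizing x with
  | zero => rfl
  | succ k ih =>
    rw [Function.iterate_succ_apply' (frobenius R p), Function.iterate_succ_apply, frobenius_def,
      L.l_pow, ih]

theorem FrobSplit.iterate_add_frob (m n : ℕ) (x : R) :
    (L.l)^[m + n] ((frobenius R p)^[n] x) = (L.l)^[m] x := by
  rw [Function.iterate_add_apply, L.iterate_frob]

theorem FrobSplit.iterate_mul (k : ℕ) (r x : R) :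
    (L.l)^[k] ((frobenius R p)^[k] r * x) = r * (L.l)^[k] x := by
  induction k generalizing r x with
  | zero => rfl
  | succ k ih =>
    rw [Function.iterate_succ_apply' (frobenius R p), Function.iterate_succ_apply, frobenius_def,
      L.l_mul, ih, ← Function.iterate_succ_apply]

/-- the retraction `R' → R`. -/
noncomputable def FrobSplit.rho0 (z : PerfectClosure R p) : R :=
  z.liftOn (fun q => (L.l)^[q.1] q.2) (by
    rintro _ _ ⟨n, x⟩
    show (L.l)^[n] x = (L.l)^[n + 1] (frobenius R p x)
    rw [Function.iterate_succ_apply, frobenius_def, L.l_pow])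

theorem FrobSplit.rho0_mk (n : ℕ) (x : R) :
    L.rho0 (PerfectClosure.mk R p (n, x)) = (L.l)^[n] x := rfl

theorem FrobSplit.rho0_add (z w : PerfectClosure R p) : L.rho0 (z + w) = L.rho0 z + L.rho0 w := by
  induction z using PerfectClosure.induction_on with
  | h q =>
  induction w using PerfectClosure.induction_on with
  | h q' =>
  obtain ⟨m, x⟩ := q
  obtain ⟨n, y⟩ := q'
  rw [PerfectClosure.mk_add_mk, L.rho0_mk, L.rho0_mk, L.rho0_mk, L.iterate_add,
    L.iterate_add_frob]
  show _ + (L.l)^[m + n] ((frobenius R p)^[m] y) = _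
  rw [add_comm m n, L.iterate_add_frob]

theorem FrobSplit.rho0_smul (r : R) (z : PerfectClosure R p) :
    L.rho0 (r • z) = r * L.rho0 z := by
  induction z using PerfectClosure.induction_on with
  | h q =>
  obtain ⟨m, x⟩ := q
  rw [perf_smul_mk, L.rho0_mk, L.rho0_mk, ← iterate_frobenius, L.iterate_mul]

/-- the retraction `ρ_n : R' → R_n`. -/
noncomputable def FrobSplit.rho (n : ℕ) : PerfectClosure R p →ₗ[R] Rn p R n where
  toFun z := Rn.equiv p R n (L.rho0 (z ^ (p ^ n)))
  map_add' z w := by
    rw [add_pow_char_pow, L.rho0_add, map_add]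
  map_smul' r z := by
    rw [RingHom.id_apply, Rn.smul_equiv, ← L.rho0_smul, Algebra.smul_def, Algebra.smul_def,
      mul_pow, map_pow]

theorem FrobSplit.rho_iota (n : ℕ) (x : Rn p R n) : L.rho n (iota p R n x) = x := by
  show Rn.equiv p R n (L.rho0 ((iota p R n x) ^ (p ^ n))) = x
  rw [iota_apply, PerfectClosure.mk_pow, L.rho0_mk, ← iterate_frobenius, L.iterate_frob,
    AddEquiv.apply_symm_apply]

end Groth.Agent.Lib.Helper6.PerfInj
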